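import Groth.Prelude.Def_AlgGrp
import Groth.Prelude.Def_Flat
import Groth.Agent.Lib.Kleiman27.Orbit
import Groth.Agent.Lib.OrbitDim.Formula
import Groth.Agent.Lib.NoethTop.KrullDim
import Groth.Agent.S0402

/-!
# Semicontinuity of the dimension of orbits
-/

universe u

open CategoryTheory CategoryTheory.Limits MonoidalCategory CartesianMonoidalCategory MonObj GrpObj
open AlgebraicGeometry TopologicalSpace Topology
open GrothLib.Orbit27 (ratPt ratPt_apply ratPt_ext)

namespace GrothLib.OrbitSemi27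

theorem localDim_homeo_le {A B : Type*} [TopologicalSpace A] [TopologicalSpace B] (h : A ≃ₜ B) (a : A) :
    FlatMor.localDim A a ≤ FlatMor.localDim B (h a) := by
  refine le_iInf fun U => iInf_le_of_le ⟨⟨h ⁻¹' U.1.1, U.1.2.preimage h.continuous⟩, U.2⟩ ?_
  exact (Kleiman27.dim_preimage h.isEmbedding (h.surjective.range_eq ▸ Set.subset_univ _)).le

theorem localDim_homeo {A B : Type*} [TopologicalSpace A] [TopologicalSpace B] (h : A ≃ₜ B) (a : A) :
    FlatMor.localDim B (h a) = FlatMor.localDim A a := by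
  refine le_antisymm ?_ (localDim_homeo_le h a)
  simpa using localDim_homeo_le h.symm (h a)

variable {k : Type u} [Field k] [IsAlgClosed k]

theorem exists_nat_dim {P : Scheme.{u}} (q : P ⟶ Spec (CommRingCat.of k)) [LocallyOfFiniteType q] [QuasiCompact q]
    {A : Set P} (hA : IsClosed A) (hne : A.Nonempty) : ∃ n : ℕ, topologicalKrullDim ↥A = n := by
  haveI := Kleiman27.noetherianSpace q
  choose f hf using fun W : {W | Kleiman27.IsComp A W} => Kleiman27.exists_nat q (W.2.isClosed hA) W.2.1.1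
  haveI : Finite {W | Kleiman27.IsComp A W} := (Kleiman27.finite_isComp A).to_subtype
  obtain ⟨N, hN⟩ := (Set.finite_range f).bddAbove
  haveI : Nonempty ↥A := hne.to_subtype
  refine Kleiman27.nat_of_le (n := N) ?_ (CurveLocus.topologicalKrullDim_le_of_components _ fun W hW => ?_)
  · obtain ⟨a, ha⟩ := hne
    exact Order.krullDim_nonneg_iff.2 ⟨⟨irreducibleComponent (⟨a, ha⟩ : A), isIrreducible_irreducibleComponent,
      isClosed_irreducibleComponent⟩⟩
  · have hW' := Kleiman27.IsComp.of_mem hW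
    rw [← Kleiman27.dim_eq_of_embedding IsEmbedding.subtypeVal W, hf ⟨_, hW'⟩]
    exact_mod_cast hN ⟨⟨_, hW'⟩, rfl⟩

variable {G X : Over (Spec (CommRingCat.of k))} [GrpObj G] [LocallyOfFiniteType G.hom] [QuasiCompact G.hom]
  [LocallyOfFiniteType X.hom] [QuasiCompact X.hom] (a : AlgGrp.Action G X)

theorem dim_closure_orbit (ξ : 𝟙_ (Over (Spec (CommRingCat.of k))) ⟶ X) :
    topologicalKrullDim ↥(closure (Set.range (a.orbitMap ξ).left.base)) =
      topologicalKrullDim ↥(Set.range (a.orbitMap ξ).left.base) := by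
  haveI := Kleiman27.noetherianSpace X.hom
  set S : Set X.left := Set.range (a.orbitMap ξ).left.base with hSdef
  obtain ⟨U, Z, hU, hZ, hS⟩ := Groth.Agent.S7984.result k G X a ξ
  have hS' : S = U ∩ Z := hS
  refine le_antisymm ?_ (IsEmbedding.inclusion subset_closure).isInducing.topologicalKrullDim_le
  refine CurveLocus.topologicalKrullDim_le_of_components _ fun T hT => ?_
  have hT' := Kleiman27.IsComp.of_mem hT
  rw [← Kleiman27.dim_eq_of_embedding IsEmbedding.subtypeVal T]
  obtain ⟨_, hz, hTz⟩ := isIrreducible_iff_sUnion_isClosed.1 hT'.1.1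
    ((Kleiman27.finite_isComp S).toFinset.image closure)
    (fun z hz => by obtain ⟨C, -, rfl⟩ := Finset.mem_image.1 hz; exact isClosed_closure)
    (fun t ht => by
      have hcov : S ⊆ ⋃₀ ↑((Kleiman27.finite_isComp S).toFinset.image closure) := fun s hs => by
        obtain ⟨C, hC, hsC⟩ := Kleiman27.exists_isComp (A := S) (s := {s}) isIrreducible_singleton
          (Set.singleton_subset_iff.2 hs)
        exact ⟨closure C, Finset.mem_coe.2 (Finset.mem_image.2 ⟨C, (Set.Finite.mem_toFinset _).2 hC, rfl⟩),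
          subset_closure (hsC rfl)⟩
      refine closure_minimal hcov ?_ (hT'.1.2 ht)
      rw [Set.sUnion_eq_biUnion]
      refine (Finset.finite_toSet _).isClosed_biUnion fun z hz => ?_
      obtain ⟨C, -, rfl⟩ := Finset.mem_image.1 hz
      exact isClosed_closure)
  obtain ⟨C, hC, rfl⟩ := Finset.mem_image.1 hz
  rw [Set.Finite.mem_toFinset] at hC
  obtain ⟨c, hc⟩ := hC.1.1.nonempty
  have hTC : Subtype.val '' T = closure C :=
    hTz.antisymm (hT'.2 ⟨hC.1.1.closure, closure_mono hC.1.2⟩ hTz)
  have hcl := hT'.isClosed isClosed_closure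
  rw [← Kleiman27.dim_inter X.hom hcl hT'.1.1 ⟨U, hU⟩
    ⟨c, hTC.ge (subset_closure hc), (hS'.le (hC.1.2 hc)).1⟩]
  refine (IsEmbedding.inclusion ?_).isInducing.topologicalKrullDim_le
  exact fun z hz => hS'.ge ⟨hz.2, hZ.closure_subset_iff.2 (hS'.le.trans Set.inter_subset_right) (hT'.1.2 hz.1)⟩

/-- The diagonal of the action. -/
noncomputable def psiMap : G ⊗ X ⟶ X ⊗ X := lift a.act (snd G X)

/-- The unit section. -/
noncomputable def unitSec : X ⟶ G ⊗ X := lift (1 : X ⟶ G) (𝟙 X)

variable [IsSeparated X.hom]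

/-- At the unit the fibre dimension is the dimension of the stabiliser. -/
theorem fibreDimAt_unitSec (x : 𝟙_ (Over (Spec (CommRingCat.of k))) ⟶ X) :
    FlatMor.fibreDimAt (psiMap a).left ((x ≫ unitSec (G := G)).left.base (IsLocalRing.closedPoint k)) =
      topologicalKrullDim ↥((a.orbitMap x).left.base ⁻¹' {x.left.base (IsLocalRing.closedPoint k)}) := by
  haveI : LocallyOfFiniteType (X ⊗ X).hom := by
    show LocallyOfFiniteType (pullback.fst X.hom X.hom ≫ X.hom); infer_instance
  haveI : LocallyOfFiniteType (G ⊗ X).hom := by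
    show LocallyOfFiniteType (pullback.fst G.hom X.hom ≫ G.hom); infer_instance
  haveI : IsSeparated G.hom := GrpSchField.isSeparated G
  haveI : JacobsonSpace G.left := LocallyOfFiniteType.jacobsonSpace G.hom
  let w := (x ≫ unitSec (G := G)).left.base (IsLocalRing.closedPoint k)
  let p := (psiMap a).left.base w
  let j : G ⟶ G ⊗ X := lift (𝟙 G) (toUnit G ≫ x)
  let F : Set G.left := (a.orbitMap x).left.base ⁻¹' {x.left.base (IsLocalRing.closedPoint k)}
  haveI : IsSeparated (fst G X).left := inferInstanceAs (IsSeparated (pullback.fst G.hom X.hom))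
  haveI : IsClosedImmersion (j.left ≫ (fst G X).left) := by
    rw [← Over.comp_left, lift_fst]; show IsClosedImmersion (𝟙 _); infer_instance
  haveI : IsClosedImmersion j.left := IsClosedImmersion.of_comp j.left (fst G X).left
  have hxc : IsClosed ({x.left.base (IsLocalRing.closedPoint k)} : Set X.left) :=
    (pointEquivClosedPoint X.hom ⟨x.left, Over.w x⟩).2
  have hF : IsClosed F := hxc.preimage (a.orbitMap x).left.continuous
  have hp : p = (lift x x).left.base (IsLocalRing.closedPoint k) := by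
    show ((x ≫ unitSec (G := G)) ≫ psiMap a).left.base (IsLocalRing.closedPoint k) = _
    congr 2
    rw [unitSec, psiMap, comp_lift, comp_lift, lift_snd, MonObj.comp_one, Category.comp_id, GrothLib.DiagGrp.act_one]
  have hpc : IsClosed ({p} : Set (X ⊗ X).left) := by
    rw [hp]; exact (pointEquivClosedPoint (X ⊗ X).hom ⟨(lift x x).left, Over.w _⟩).2
  have hj : ∀ g : 𝟙_ (Over (Spec (CommRingCat.of k))) ⟶ G, g ≫ j ≫ psiMap a = lift (g ≫ a.orbitMap x) x := by
    intro g
    simp only [j, psiMap]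
    rw [← Category.assoc, comp_lift, comp_lift, lift_snd, Category.comp_id, comp_toUnit_assoc,
      toUnit_unique (toUnit _) (𝟙 _), Category.id_comp, GrothLib.FlatFactor.comp_orbitMap,
      toUnit_unique (toUnit _) (𝟙 _), Category.id_comp]
  -- the fibre is the stabiliser
  have himg : j.left.base '' F = (psiMap a).left.base ⁻¹' {p} := by
    refine Set.Subset.antisymm ?_ ?_
    · refine Set.image_subset_iff.2 (Orbit27.subset_of_closedPoints hF
        ((hpc.preimage (psiMap a).left.continuous).preimage j.left.continuous) fun g hg => ?_)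
      show (g ≫ j ≫ psiMap a).left.base (IsLocalRing.closedPoint k) = p
      rw [hj, hp, ratPt_ext (x := g ≫ a.orbitMap x) (y := x) hg]
    · refine Orbit27.subset_of_closedPoints (hpc.preimage (psiMap a).left.continuous)
        (j.left.isClosedEmbedding.isClosedMap F hF) fun q hq => ?_
      have e : q ≫ psiMap a = lift x x := ratPt_ext (show (psiMap a).left.base _ = _ from (hq.trans hp))
      rw [psiMap, comp_lift] at e
      have e1 : q ≫ a.act = x := by simpa only [lift_fst] using congrArg (· ≫ fst X X) e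
      have e2 : q ≫ snd G X = x := by simpa only [lift_snd] using congrArg (· ≫ snd X X) e
      refine ⟨(q ≫ fst G X).left.base (IsLocalRing.closedPoint k), ?_, ?_⟩
      · show ((q ≫ fst G X) ≫ a.orbitMap x).left.base (IsLocalRing.closedPoint k) = x.left.base _
        congr 2
        rw [GrothLib.FlatFactor.comp_orbitMap, toUnit_unique (toUnit _) (𝟙 _), Category.id_comp]
        conv_rhs => rw [← e1, ← lift_comp_fst_snd q, e2]
      · rw [← Orbit27.comp_apply]
        congr 2
        simp only [j]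
        rw [comp_lift, Category.comp_id, comp_toUnit_assoc, toUnit_unique (toUnit _) (𝟙 _), Category.id_comp]
        conv_rhs => rw [← lift_comp_fst_snd q, e2]
  let h : ↥F ≃ₜ ↥((psiMap a).left.base ⁻¹' {p}) :=
    ((j.left.isEmbedding).comp IsEmbedding.subtypeVal).toHomeomorph.trans
      (Homeomorph.setCongr (by rw [Set.range_comp, Subtype.range_coe, himg]))
  let e : ↥F := ⟨(1 : 𝟙_ (Over (Spec (CommRingCat.of k))) ⟶ G).left.base (IsLocalRing.closedPoint k), by
    show ((1 : 𝟙_ (Over (Spec (CommRingCat.of k))) ⟶ G) ≫ a.orbitMap x).left.base (IsLocalRing.closedPoint k) = _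
    rw [GrothLib.FlatFactor.comp_orbitMap, GrothLib.DiagGrp.act_one, toUnit_unique (toUnit _) (𝟙 _), Category.id_comp]⟩
  have he : (psiMap a).left.fiberHomeo p ((psiMap a).left.asFiber w) = h e := by
    apply Subtype.ext
    show (psiMap a).left.fiberι p ((psiMap a).left.asFiber w) = j.left.base e.1
    rw [Scheme.Hom.fiberι_asFiber]
    show (x ≫ unitSec (G := G)).left.base _ = ((1 : 𝟙_ (Over (Spec (CommRingCat.of k))) ⟶ G) ≫ j).left.base _
    congr 2
    simp only [j, unitSec]
    rw [comp_lift, comp_lift, Category.comp_id, Category.comp_id, MonObj.comp_one, comp_toUnit_assoc,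
      toUnit_unique (toUnit _) (𝟙 _), Category.id_comp]
  have hloc : FlatMor.fibreDimAt (psiMap a).left w = FlatMor.localDim ↥F e := by
    show FlatMor.localDim ((psiMap a).left.fiber p) ((psiMap a).left.asFiber w) = _
    rw [← localDim_homeo ((psiMap a).left.fiberHomeo p), he, localDim_homeo h]
  show FlatMor.fibreDimAt (psiMap a).left w = _
  rw [hloc]
  refine le_antisymm (NoethTop.localDim_le_dim e) ?_
  -- homogeneity
  obtain ⟨V, hV, hVd⟩ := NoethTop.exists_localDim_eq e
  rw [← hVd]
  obtain ⟨V', hV', hVV'⟩ := isOpen_induced_iff.1 V.2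
  let I := {g : 𝟙_ (Over (Spec (CommRingCat.of k))) ⟶ G // g.left.base (IsLocalRing.closedPoint k) ∈ F}
  have hfix : ∀ g : I, g.1 ≫ a.orbitMap x = x := fun g => ratPt_ext g.2
  have hmap : ∀ g : I, (Kleiman27.ltr g.1⁻¹).left.base ⁻¹' F = F := by
    intro g
    have hinv : g.1⁻¹ ≫ a.orbitMap x = x := by
      have h1 := hfix g
      rw [GrothLib.FlatFactor.comp_orbitMap, toUnit_unique (toUnit _) (𝟙 _), Category.id_comp] at h1 ⊢
      conv_lhs => rw [← h1]
      rw [← GrothLib.DiagGrp.act_mul, inv_mul_cancel, GrothLib.DiagGrp.act_one]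
    have key : ∀ γ₀ : 𝟙_ (Over (Spec (CommRingCat.of k))) ⟶ G, γ₀ ≫ a.orbitMap x = x →
        F ⊆ (Kleiman27.ltr γ₀).left.base ⁻¹' F := by
      intro γ₀ hγ₀
      refine Orbit27.subset_of_closedPoints hF (hF.preimage (Kleiman27.ltr γ₀).left.continuous) fun q hq => ?_
      have hq' : q ≫ a.orbitMap x = x := ratPt_ext hq
      show (q ≫ Kleiman27.ltr γ₀ ≫ a.orbitMap x).left.base (IsLocalRing.closedPoint k) = x.left.base _
      rw [Kleiman27.ltr_orbitMap, reassoc_of% hq', Kleiman27.tr, comp_lift_assoc, Category.comp_id,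
        comp_toUnit_assoc, toUnit_unique (toUnit _) (𝟙 _), Category.id_comp]
      rw [GrothLib.FlatFactor.comp_orbitMap, toUnit_unique (toUnit _) (𝟙 _), Category.id_comp] at hγ₀
      rw [hγ₀]
    refine Set.Subset.antisymm (fun z hz => ?_) (key _ hinv)
    have := key g.1 (hfix g) hz
    rwa [Set.mem_preimage, ← Scheme.Hom.comp_apply, ← Over.comp_left, Kleiman27.ltr_ltr, mul_inv_cancel,
      Kleiman27.ltr_one] at this
  let W : I → Opens ↥F := fun g =>
    ⟨Subtype.val ⁻¹' ((Kleiman27.ltr g.1⁻¹).left.base ⁻¹' V'),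
      (hV'.preimage (Kleiman27.ltr g.1⁻¹).left.continuous).preimage continuous_subtype_val⟩
  refine Dim.topologicalKrullDim_le_of_cover W (fun z => ?_) fun g => ?_
  · obtain ⟨y, hy, hyc⟩ := nonempty_inter_closedPoints (Z := closure ({z.1} : Set G.left))
      ⟨z.1, subset_closure rfl⟩ isClosed_closure.isLocallyClosed
    have hyF : y ∈ F := hF.closure_subset_iff.2 (Set.singleton_subset_iff.2 z.2) hy
    refine ⟨⟨ratPt y hyc, by rw [ratPt_apply]; exact hyF⟩, ?_⟩
    refine (specializes_iff_mem_closure.2 hy).mem_open (hV'.preimage (Kleiman27.ltr _).left.continuous) ?_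
    show (Kleiman27.ltr (ratPt y hyc)⁻¹).left.base y ∈ V'
    have e' : (ratPt y hyc ≫ Kleiman27.ltr (ratPt y hyc)⁻¹).left.base (IsLocalRing.closedPoint k) = e.1 := by
      congr 2
      rw [Kleiman27.ltr, MonObj.comp_mul, Category.comp_id, ← Category.assoc, toUnit_unique (_ ≫ toUnit G) (𝟙 _),
        Category.id_comp, inv_mul_cancel]
    rw [Orbit27.comp_apply, ratPt_apply] at e'
    rw [e']
    exact hVV'.ge hV
  · haveI := Kleiman27.isIso_ltr (G := G) g.1⁻¹
    let φ : ↥F → ↥F := fun z => ⟨(Kleiman27.ltr g.1⁻¹).left.base z.1, (hmap g).ge z.2⟩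
    have hφ : IsInducing φ := IsInducing.of_comp
      (by exact ((Kleiman27.ltr g.1⁻¹).left.continuous.comp continuous_subtype_val).subtype_mk _)
      continuous_subtype_val
      ((Kleiman27.ltr g.1⁻¹).left.isEmbedding.isInducing.comp IsInducing.subtypeVal)
    let ψ : ↥(W g) → ↥(V : Set ↥F) := fun z => ⟨φ z.1, hVV'.le z.2⟩
    have hψ : IsInducing ψ := IsInducing.of_comp
      (by exact (hφ.continuous.comp continuous_subtype_val).subtype_mk _) continuous_subtype_val
      (hφ.comp IsInducing.subtypeVal)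
    exact hψ.topologicalKrullDim_le

/-- Semicontinuity of the dimension of orbit closures. -/
theorem exists_closed (r : ℕ) :
    ∃ Z : Set ↥X.left, IsClosed Z ∧
      ∀ x : 𝟙_ (Over (Spec (CommRingCat.of k))) ⟶ X,
        topologicalKrullDim ↥(closure (Set.range ⇑(a.orbitMap x).left.base)) ≤ (r : WithBot ℕ∞) ↔
          Set.range ⇑x.left.base ⊆ Z := by
  haveI : LocallyOfFiniteType ((psiMap a).left ≫ (X ⊗ X).hom) := by
    rw [Over.w]
    show LocallyOfFiniteType (pullback.fst G.hom X.hom ≫ G.hom); infer_instance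
  haveI : LocallyOfFiniteType (psiMap a).left := locallyOfFiniteType_of_comp _ (X ⊗ X).hom
  obtain ⟨gd, hgd⟩ := exists_nat_dim G.hom (isClosed_univ (X := G.left))
    ⟨(1 : 𝟙_ (Over (Spec (CommRingCat.of k))) ⟶ G).left.base (IsLocalRing.closedPoint k), trivial⟩
  rw [(Homeomorph.Set.univ G.left).isHomeomorph.topologicalKrullDim_eq] at hgd
  have key : ∀ x : 𝟙_ (Over (Spec (CommRingCat.of k))) ⟶ X, ∃ d f : ℕ, gd = d + f ∧
      topologicalKrullDim ↥(closure (Set.range ⇑(a.orbitMap x).left.base)) = d ∧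
      FlatMor.fibreDimAt (psiMap a).left ((x ≫ unitSec (G := G)).left.base (IsLocalRing.closedPoint k)) = f := by
    intro x
    obtain ⟨d, hd⟩ := exists_nat_dim X.hom (isClosed_closure (s := Set.range ⇑(a.orbitMap x).left.base))
      ⟨_, subset_closure (Set.mem_range_self ((1 : 𝟙_ (Over (Spec (CommRingCat.of k))) ⟶ G).left.base (IsLocalRing.closedPoint k)))⟩
    have hxc : IsClosed ({x.left.base (IsLocalRing.closedPoint k)} : Set X.left) :=
      (pointEquivClosedPoint X.hom ⟨x.left, Over.w x⟩).2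
    obtain ⟨f, hf⟩ := exists_nat_dim G.hom (hxc.preimage (a.orbitMap x).left.continuous)
      ⟨(1 : 𝟙_ (Over (Spec (CommRingCat.of k))) ⟶ G).left.base (IsLocalRing.closedPoint k), by
        show ((1 : 𝟙_ (Over (Spec (CommRingCat.of k))) ⟶ G) ≫ a.orbitMap x).left.base _ = x.left.base _
        rw [GrothLib.FlatFactor.comp_orbitMap, GrothLib.DiagGrp.act_one, toUnit_unique (toUnit _) (𝟙 _),
          Category.id_comp]⟩
    refine ⟨d, f, ?_, hd, (fibreDimAt_unitSec a x).trans hf⟩
    have h := GrothLib.OrbitDim.dim_eq_add a x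
    rw [← dim_closure_orbit, hgd, hd, hf] at h
    exact_mod_cast h
  have hpt : ∀ (x : 𝟙_ (Over (Spec (CommRingCat.of k))) ⟶ X) (Z : Set X.left),
      Set.range x.left.base ⊆ Z ↔ x.left.base (IsLocalRing.closedPoint k) ∈ Z := by
    intro x Z
    refine ⟨fun h => h ⟨_, rfl⟩, ?_⟩
    rintro h _ ⟨t, rfl⟩
    rwa [Subsingleton.elim (α := ↥(Spec (CommRingCat.of k))) t (IsLocalRing.closedPoint k)]
  by_cases hr : gd ≤ r
  · refine ⟨Set.univ, isClosed_univ, fun x => ⟨fun _ => Set.subset_univ _, fun _ => ?_⟩⟩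
    obtain ⟨d, f, hdf, hd, -⟩ := key x
    rw [hd]
    exact_mod_cast (show d ≤ r by omega)
  refine ⟨((unitSec (G := G) (X := X)).left.base ⁻¹' {w | FlatMor.fibreDimAt (psiMap a).left w ≤ ((gd - r - 1 : ℕ) : WithBot ℕ∞)})ᶜ,
    ((Groth.Agent.S0402.result (psiMap a).left (gd - r - 1)).preimage (unitSec (G := G) (X := X)).left.continuous).isClosed_compl,
    fun x => ?_⟩
  obtain ⟨d, f, hdf, hd, hf⟩ := key x
  rw [hpt, hd, Set.mem_compl_iff, Set.mem_preimage, Set.mem_setOf_eq, ← Orbit27.comp_apply, hf]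
  norm_cast
  omega

end GrothLib.OrbitSemi27
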